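import Groth.Agent.AlgSpLib.LCIBase
import Groth.Agent.AlgSpLib.LCILocus
import Groth.Agent.Stk19.AlgSt.LocQThm

/-! Local complete intersection morphisms are smooth local on the source and target. -/

set_option autoImplicit false
set_option linter.style.haveILetI false
set_option backward.isDefEq.respectTransparency false
set_option backward.isDefEq.respectTransparency.types false

universe u

open CategoryTheory CategoryTheory.Limits AlgebraicGeometry AlgSp
open Groth.Agent.AlgSpLib Groth.Agent.Synt15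

namespace Groth.Agent.Stk19b.LCIST

variable {S : Scheme.{u}} {X Y Z : AlgSp.Sp S}

theorem lci_comp {U V W : Scheme.{u}} (f : U ⟶ V) (g : V ⟶ W) (hf : AlgSp.lci f) (hg : AlgSp.lci g) :
    AlgSp.lci (f ≫ g) :=
  fun x => isKoszulAt_comp f g (hf x) (hg _)

theorem lci_smooth {U V : Scheme.{u}} (f : U ⟶ V) [Smooth f] : AlgSp.lci f :=
  fun x => isKoszulAt_of_isKoszulPt f (isKoszulPt_of_smooth f x)

theorem lci_cancel {U V W : Scheme.{u}} (f : U ⟶ V) (g : V ⟶ W) [Smooth g] (h : AlgSp.lci (f ≫ g)) :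
    AlgSp.lci f :=
  fun x => isKoszulAt_of_isKoszulPt f (isKoszulPt_of_comp_smooth f g (isKoszulPt_of_isKoszulAt _ (h x)))

/-- Koszul at the image of a smooth morphism. -/
theorem isKoszulAt_image {T U V : Scheme.{u}} (s : T ⟶ U) [Smooth s] (l : U ⟶ V) (h : AlgSp.lci (s ≫ l))
    (t : T) : Synt.IsKoszulAt l (s t) := by
  let O : U.Opens := ⟨Set.range s, s.isOpenMap.isOpen_range⟩
  have hr : Set.range s ⊆ Set.range O.ι := by rw [Scheme.Opens.range_ι]; exact subset_rfl
  let s' : T ⟶ O := IsOpenImmersion.lift O.ι s hr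
  have hs' : s' ≫ O.ι = s := IsOpenImmersion.lift_fac O.ι s hr
  haveI : Smooth s' := by
    haveI : Smooth (s' ≫ O.ι) := by rw [hs']; infer_instance
    exact MorphismProperty.of_postcomp (W := @Smooth) (W' := @IsOpenImmersion) s' O.ι inferInstance inferInstance
  haveI : Surjective s' := ⟨fun o => by
    obtain ⟨t', ht'⟩ := o.2
    refine ⟨t', O.ι.isOpenEmbedding.injective ?_⟩
    rw [← Scheme.Hom.comp_apply, hs']
    exact ht'⟩
  have hO := FlatMor12.KoszulSource.isKoszulAt_of_syntomic_precomp s' (Groth.Agent.S9699.result s') (O.ι ≫ l)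
    (fun t' => by rw [← Category.assoc, hs']; exact h t') (s' t)
  have := isKoszulPt_of_openImmersion_comp O.ι l (isKoszulPt_of_isKoszulAt _ hO)
  rw [← Scheme.Hom.comp_apply, hs'] at this
  exact isKoszulAt_of_isKoszulPt l this

theorem locP_lci_yon {U V : Over S} (l : U ⟶ V) (h : AlgSp.lci l.left) :
    AlgSp.IsLCIMor ((AlgSp.yon S).map l) := by
  intro U' V' a b k ha hb w
  obtain ⟨a', rfl⟩ := (AlgSp.yon S).map_surjective a
  obtain ⟨b', rfl⟩ := (AlgSp.yon S).map_surjective b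
  haveI : Etale a'.left := (AlgSp.repWith_yon_map_iff _ a').1 ha
  haveI : Etale b'.left := (AlgSp.repWith_yon_map_iff _ b').1 hb
  rw [← Functor.map_comp, ← Functor.map_comp] at w
  have e : a'.left ≫ l.left = k.left ≫ b'.left :=
    congrArg (fun m => m.left) ((AlgSp.yon S).map_injective w)
  exact lci_cancel k.left b'.left (e ▸ lci_comp a'.left l.left (lci_smooth _) h)

theorem lci_of_yon {U V : Over S} {l : U ⟶ V} (h : AlgSp.IsLCIMor ((AlgSp.yon S).map l)) : AlgSp.lci l.left := by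
  refine h (𝟙 _) (𝟙 _) l ?_ ?_ (by simp) <;> exact AlgSp.repWith_id _ _

/-- The locality criterion, with scheme charts. -/
theorem isLCIMor_of_scheme_squares (hX : AlgSp.IsAlgSpace X) (hY : AlgSp.IsAlgSpace Y) (f : X ⟶ Y)
    (h : ∀ x : AlgSp.Points X, ∃ (U V : Over S) (a : (AlgSp.yon S).obj U ⟶ X) (b : (AlgSp.yon S).obj V ⟶ Y)
      (l : U ⟶ V) (u : U.left), AlgSp.LocP @Smooth a ∧ AlgSp.LocP @Smooth b ∧
        a ≫ f = (AlgSp.yon S).map l ≫ b ∧ AlgSp.Points.ofPt a u = x ∧ AlgSp.lci l.left) :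
    AlgSp.IsLCIMor f := by
  intro U V A B l hA hB w u
  obtain ⟨U₂, V₂, a, b, k, u₂, ha, hb, w₂, hu₂, hk⟩ := h (AlgSp.Points.ofPt A u)
  have hra := hX.representable_from_yon A
  have hrb := hY.representable_from_yon B
  have sqX := hra.isPullback' a
  have sqY := hrb.isPullback' b
  let m : hra.pullback a ⟶ hrb.pullback b := hrb.lift' (hra.fst' a ≫ l) (hra.snd a ≫ k) (by
    rw [Functor.map_comp, Functor.map_comp, Category.assoc, Category.assoc, ← w, ← w₂, ← Category.assoc,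
      sqX.w, Category.assoc])
  have m1 : m.left ≫ (hrb.fst' b).left = (hra.fst' a).left ≫ l.left :=
    (Over.comp_left _ _ _ _ _).symm.trans ((congrArg (fun t : hra.pullback a ⟶ V => t.left) (Functor.relativelyRepresentable.lift'_fst hrb _ _ _)).trans (Over.comp_left _ _ _ _ _))
  have m2 : m.left ≫ (hrb.snd b).left = (hra.snd a).left ≫ k.left :=
    (Over.comp_left _ _ _ _ _).symm.trans ((congrArg (fun t : hra.pullback a ⟶ V₂ => t.left) (Functor.relativelyRepresentable.lift'_snd hrb _ _ _)).trans (Over.comp_left _ _ _ _ _))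
  haveI : Etale (hra.snd a).left := hA.property_snd a
  haveI : Etale (hrb.snd b).left := hB.property_snd b
  haveI : Smooth (hra.fst' a).left :=
    ha ((AlgSp.yon S).map (hra.snd a)) A (hra.fst' a) ((AlgSp.repWith_yon_map_iff _ _).2 inferInstance) hA sqX.w.symm
  haveI : Smooth (hrb.fst' b).left :=
    hb ((AlgSp.yon S).map (hrb.snd b)) B (hrb.fst' b) ((AlgSp.repWith_yon_map_iff _ _).2 inferInstance) hB sqY.w.symm
  obtain ⟨r, hr, -⟩ := (ofPt_eq_ofPt_iff sqX u u₂).1 hu₂.symm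
  have h1 : AlgSp.lci (m.left ≫ (hrb.snd b).left) := m2 ▸ lci_comp _ _ (lci_smooth _) hk
  have h2 : AlgSp.lci ((hra.fst' a).left ≫ l.left) :=
    m1 ▸ lci_comp _ _ (lci_cancel _ _ h1) (lci_smooth _)
  exact hr ▸ isKoszulAt_image (hra.fst' a).left l.left h2 r

theorem locP_lci_of_eq_comp (hX : AlgSp.IsAlgSpace X) (hY : AlgSp.IsAlgSpace Y) (hZ : AlgSp.IsAlgSpace Z)
    (f : X ⟶ Y) (g : Y ⟶ Z) (hf : AlgSp.LocP @Smooth f) (hg : AlgSp.IsLCIMor g) :
    AlgSp.IsLCIMor (f ≫ g) := by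
  obtain ⟨W, c, hce, hcs⟩ := hZ.atlas
  obtain ⟨V, b, k, hbe, hbs, wb⟩ := exists_chart_over hY hZ g c hce hcs
  obtain ⟨U, a, h, hae, has, wa⟩ := exists_chart_over hX hY f b hbe hbs
  haveI : Smooth h.left := hf a b h hae hbe wa
  refine isLCIMor_of_scheme_squares hX hZ _ fun x => ?_
  obtain ⟨u, rfl⟩ := surjective_ofPt a has x
  exact ⟨U, W, a, c, h ≫ k, u,
    locP_mono (fun _ _ g (_ : Etale g) => (inferInstance : Smooth g))
      (locP_of_repWith etLocal_etale (AlgSp.IsAlgSpace.yon_obj U) hae),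
    locP_mono (fun _ _ g (_ : Etale g) => (inferInstance : Smooth g))
      (locP_of_repWith etLocal_etale (AlgSp.IsAlgSpace.yon_obj W) hce),
    by rw [← Category.assoc, wa, Category.assoc, wb, Functor.map_comp, Category.assoc], rfl,
    lci_comp h.left k.left (lci_smooth _) (hg b c k hbe hce wb)⟩

theorem smST_lci : AlgSp.IsSmoothLocalST (AlgSp.IsLCIMor (S := S)) where
  precomp _ _ _ hX hY hZ f g hf hg := locP_lci_of_eq_comp hX hY hZ f g hf hg
  baseChange _ _ _ _ hX hY hX' hY' _ _ _ _ sq hg hf :=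
    isLCIMor_of_flat_baseChange hX hY hX' hY' sq (locP_mono (fun _ _ k (_ : Smooth k) => (inferInstance : Flat k)) hg) hf
  locality X Y hX hY f := by
    refine ⟨fun hf x => ⟨X, Y, 𝟙 X, 𝟙 Y, f, x, hX, hY, locP_id etLocal_smooth hX, locP_id etLocal_smooth hY, by simp,
      AlgSp.Points.map_id x, hf⟩, fun h => isLCIMor_of_scheme_squares hX hY f fun x => ?_⟩
    obtain ⟨U₁, V₁, a, b, k, v, hU, hV, ha, hb, w, hv, hk⟩ := h x
    obtain ⟨V₂, q, hqe, hqs⟩ := hV.atlas
    obtain ⟨U₂, p, l, hpe, hps, wl⟩ := exists_chart_over hU hV k q hqe hqs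
    obtain ⟨u, rfl⟩ := surjective_ofPt p hps v
    refine ⟨U₂, V₂, p ≫ a, q ≫ b, l, u,
      locP_comp etLocal_smooth (AlgSp.IsAlgSpace.yon_obj U₂) hU hX
        (locP_mono (fun _ _ g (_ : Etale g) => (inferInstance : Smooth g))
          (locP_of_repWith etLocal_etale (AlgSp.IsAlgSpace.yon_obj U₂) hpe)) ha,
      locP_comp etLocal_smooth (AlgSp.IsAlgSpace.yon_obj V₂) hV hY
        (locP_mono (fun _ _ g (_ : Etale g) => (inferInstance : Smooth g))
          (locP_of_repWith etLocal_etale (AlgSp.IsAlgSpace.yon_obj V₂) hqe)) hb,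
      by rw [Category.assoc, w, ← Category.assoc, wl, Category.assoc], ?_, hk p q l hpe hqe wl⟩
    rw [← AlgSp.Points.map_ofPt]
    exact hv

end Groth.Agent.Stk19b.LCIST
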